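import Cfsg.Agent.Omega.ML.Ex.Typ.Bn
import Cfsg.Agent.Nodes.RGDLie

/-!
# The types of the groups of Lie type

* `typ_PSL`, `typ_PSp`, `typ_PSU`, `typ_PO_plus`, `typ_PO_minus`, `typ_exc`, `typ_tw` : the root group data with their
  Coxeter matrices;
* `RgdTyp p G` : `G` has a root group datum of one of the types `A_n`, `B_n`, `D_n`, `E_n`, `F_4`, `G_2`;
* **`rgdTyp_of_lie`** : every group of Lie type of characteristic `2`, other than the groups of Suzuki and Ree.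
-/

set_option autoImplicit false

namespace Cfsg.Agent.Omega.ML.Ex.Typ

open Cfsg
open CoxeterSystem Cfsg.Agent.ChevalleyStructure.CoxeterGeom Cfsg.Agent.Tits.Roots Cfsg.Agent.Tits.Core
  Cfsg.Agent.Nodes.Comb Cfsg.Agent.Nodes.Reps Cfsg.Agent.Nodes.BNOf Cfsg.Agent.FixBN
  Cfsg.Agent.Nodes.RGDLib Cfsg.Agent.Nodes.RGDChev Cfsg.Agent.LieRecognition.BNCox
  Cfsg.Agent.TitsThree

/-! ### Type `A_n` -/

theorem typ_PSL {F : Type*} [Field F] [Finite F] (n : ℕ) {p : ℕ} [Fact p.Prime] [CharP F p] :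
    HasRGDT p (cA n) (Matrix.ProjectiveSpecialLinearGroup (Fin (n + 1)) F) :=
  have : Finite (cA n).Group := Nodes.RootsA.finite_W (cA n).toCoxeterSystem (Nodes.RootsA.isCartan n)
  ⟨Nodes.RootsA.AA n, Nodes.RootsA.isCartan n, _, _, _, this, Nodes.RGDTypeA.rgd_psl _ _,
    Nodes.RGDTypeA.G1_psl_eq_top _ _⟩

theorem typ_of_PSL {p : ℕ} {G : Type*} [Group G] (hG : IsPSLChar p G) : ∃ n, 1 ≤ n ∧ HasRGDT p (cA n) G := by
  obtain ⟨F, _, _, _, n, hn, -, ⟨e⟩⟩ := hG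
  have : Fact p.Prime := Nodes.RGDClass.fact_prime (F := F)
  obtain ⟨n, rfl⟩ : ∃ k, n = k + 1 := ⟨n - 1, by omega⟩
  exact ⟨n, by omega, (typ_PSL n).of_equiv e.symm⟩

/-! ### Type `B_n` -/

section TypeC

open Cfsg.Agent.Nodes Cfsg.Agent.Nodes.WittAll Cfsg.Agent.Nodes.WittU Cfsg.Agent.Nodes.WittInst
  Cfsg.Agent.TitsThree.Siegel Cfsg.Agent.TitsThree.SiegelGen
  Cfsg.Agent.TitsThree.WittFrame Cfsg.Agent.TitsThree.WBridge Cfsg.Agent.TitsThree.WittWeyl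
  Cfsg.Agent.TitsThree.FrameCN

variable {F : Type*} [Field F] {V : Type*} [AddCommGroup V] [Module F V] {H : HForm F V}

theorem typ_C {n : ℕ} {Fr : Frame H (Fin n)} {K : Type*} [Group K] (M : Model Fr K) {p : ℕ}
    (hA : AmbT Fr p M.I) [Finite V] [Fact p.Prime] [CharP F p] {p0 : Fr.Adm} (hp0 : p0.c ≠ 0)
    (hn : 0 < n) : HasRGDT p (CoxeterMatrix.B n) K :=
  ⟨Nodes.TypeC.A n, Nodes.TypeC.isCartan n, _, _, _, Nodes.TypeC.finite_W (CoxeterMatrix.B n).toCoxeterSystem,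
    rgdC_model M hA hp0 _, WittModel.G1_eq_top _ hn _⟩

theorem typ_PSU {F : Type*} [Field F] [Fintype F] {q N : ℕ} (hF : Fintype.card F = q ^ 2) (hN : 3 ≤ N) {p : ℕ}
    [Fact p.Prime] [CharP F p] : ∃ m, (N = 2 * m ∨ N = 2 * m + 1) ∧ HasRGDT p (CoxeterMatrix.B m) (PSU N F q) := by
  obtain ⟨m, hm⟩ : ∃ m, N = 2 * m ∨ N = 2 * m + 1 := ⟨N / 2, by omega⟩
  obtain ⟨W, -⟩ := exists_wframe hF hm
  obtain ⟨p0, hp0, -⟩ := exists_adm hF W
  exact ⟨m, hm, typ_C (KInstU.model hF hN W) (AmbT.of_amb (amb_U hF W) p) hp0 (by omega)⟩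

theorem typ_PSp {F : Type*} [Field F] [Finite F] {m : ℕ} (hm : 1 ≤ m) {p : ℕ}
    [Fact p.Prime] [CharP F p] : HasRGDT p (CoxeterMatrix.B m) (PSp m F) :=
  typ_C (KInstSp.model m F) (AmbT.of_amb amb_Sp p) (p0 := SpIdent.adm 1) one_ne_zero hm

end TypeC

/-! ### Orthogonal groups -/

section Orthogonal

open QuadraticMap
open Cfsg.Agent.LieClassical Cfsg.Agent.LieClassical.OrthCore Cfsg.Agent.LieClassical.OrthTrans
open Cfsg.Agent.LieClassical.OrthSimple Cfsg.Agent.LieClassical.OrthFinite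
open Cfsg.Agent.LieClassical.OrthForms
open Cfsg.Agent.TitsThree.KSideO Cfsg.Agent.TitsThree.StdData
open Cfsg.Agent.Nodes Cfsg.Agent.Nodes.WittAll Cfsg.Agent.Nodes.WittU Cfsg.Agent.Nodes.WittInst
  Cfsg.Agent.TitsThree.Siegel Cfsg.Agent.TitsThree.SiegelGen
  Cfsg.Agent.TitsThree.WittFrame Cfsg.Agent.TitsThree.WBridge Cfsg.Agent.TitsThree.WittWeyl
  Cfsg.Agent.TitsThree.FrameCN

variable {F : Type*} [Field F] {m : ℕ}

/-- **`PΩ⁻_{2m+2}(F)`, every characteristic.** -/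
theorem typ_PO_minus [Finite F] {a b : F} (hab : ∀ z₁ z₂ : F, z₁ ^ 2 + a * z₁ * z₂ + b * z₂ ^ 2 = 0 → z₁ = 0 ∧ z₂ = 0)
    (hm : 2 ≤ m) {p : ℕ} [Fact p.Prime] [CharP F p] :
    HasRGDT p (CoxeterMatrix.B m) (Cfsg.POmega F (Cfsg.quadFormMinus m F a b)) := by
  rw [← coe_minusForm]
  have hG : Good (minusForm m F a b) := by
    apply good_of_finite (nondeg_minusForm m F a b hab)
    rw [Module.finrank_fintype_fun_eq_card, Fintype.card_sum, Fintype.card_sum, Fintype.card_fin,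
      Fintype.card_fin]
    omega
  have hp : ((embMinus m F a b hab).ngt ⟨(1, 0), -nf a b (1, 0), rfl⟩).c ≠ 0 := by
    change (1 : F)⁻¹ * (-nf a b (1, 0)) ≠ 0
    simp [nf]
  have hA : AmbT (toFrame (wminus m F a b hab)) p (E (minusForm m F a b)) := by
    by_cases h2 : (2 : F) = 0
    · have hp2 : p = 2 := by
        have h3 : CharP F 2 := CharTwo.of_one_ne_zero_of_two_eq_zero one_ne_zero h2
        exact CharP.eq F ‹CharP F p› h3
      subst hp2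
      exact ambT_O _ fun g hg hg2 hb => fixp_minus a b hab h2 hm hG hg hg2 hb
    · exact AmbT.of_amb (amb_O_of_two _ h2) p
  exact typ_C (model (wminus m F a b hab) hG ⟨_, hp⟩) hA hp (by omega)

/-- **`PΩ⁺_{2(n+3)}(F)`, every characteristic.** -/
theorem typ_PO_plus [Finite F] (n : ℕ) {p : ℕ} [Fact p.Prime] [CharP F p] :
    HasRGDT p (Nodes.TypeD.M (n + 1)) (Cfsg.POmega F (Cfsg.quadFormPlus (n + 3) F)) := by
  rw [← coe_plusForm]
  have hG : Good (plusForm (n + 3) F) := by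
    apply good_of_finite (nondeg_plusForm (n + 3) F)
    rw [Module.finrank_fintype_fun_eq_card, Fintype.card_sum, Fintype.card_fin]
    omega
  exact ⟨Nodes.TypeD.A (n + 1), Nodes.TypeD.isCartan (n + 1), _, _, _,
    Nodes.TypeD.finite_W (Nodes.TypeD.M (n + 1)).toCoxeterSystem,
    rgdD_model (wplus (n + 3) F) hG (amb_plus _) (adm_plus _) _,
    G1D_eq_top (wplus (n + 3) F) (toPOmega hG) (toPOmega_surjective hG) (adm_plus _) _⟩

end Orthogonal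

/-! ### Exceptional groups -/

theorem typ_group {D : Lie.ChevalleyDatum} {l : ℕ} {M : CoxeterMatrix (Fin l)} (hp : IsType D l M) (K : Type*)
    [Field K] [Finite K] (p : ℕ) [CharP K p] : HasRGDT p M ↥(D.group K) := by
  have : Fact p.Prime := ⟨CharP.char_is_prime K p⟩
  exact ⟨_, hp.isCartan, _, _, _, finite_W hp M.toCoxeterSystem,
    rgd (K := K) hp M.toCoxeterSystem p, G1_eq_top hp _⟩

/-- the types of the exceptional groups -/
theorem typ_of_exc {p : ℕ} {G : Type*} [Group G] (hG : IsExceptionalChevChar p G) :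
    HasRGDT p CoxeterMatrix.G₂ G ∨ HasRGDT p CoxeterMatrix.F₄ G ∨ HasRGDT p CoxeterMatrix.E₆ G ∨
      HasRGDT p CoxeterMatrix.E₇ G ∨ HasRGDT p CoxeterMatrix.E₈ G := by
  obtain ⟨F, _, _, _, ⟨-, ⟨e⟩⟩ | ⟨⟨e⟩⟩ | ⟨⟨e⟩⟩ | ⟨⟨e⟩⟩ | ⟨⟨e⟩⟩⟩ := hG
  · exact Or.inl ((typ_group (by simp [IsType, typeList]) F p).of_equiv e.symm)
  · exact Or.inr (Or.inl ((typ_group (by simp [IsType, typeList]) F p).of_equiv e.symm))
  · exact Or.inr (Or.inr (Or.inl ((typ_group (by simp [IsType, typeList]) F p).of_equiv e.symm)))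
  · exact Or.inr (Or.inr (Or.inr (Or.inl ((typ_group (by simp [IsType, typeList]) F p).of_equiv e.symm))))
  · exact Or.inr (Or.inr (Or.inr (Or.inr ((typ_group (by simp [IsType, typeList]) F p).of_equiv e.symm))))

theorem typ_twE6 {K : Type*} [Field K] [Fintype K] {q : ℕ} (hq : IsPrimePow q) (hK : Fintype.card K = q ^ 2)
    (p : ℕ) [CharP K p] : HasRGDT p CoxeterMatrix.F₄ ↥(Lie.twistedE6 K q) := by
  have : Fact p.Prime := ⟨CharP.char_is_prime K p⟩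
  obtain ⟨φ, hφ, hqq⟩ := ChevalleyStructure.TwE6Basic.exists_frob hq hK
  exact ⟨_, Nodes.RGDTwE6.isCartan, _, _, _,
    Nodes.RGDFold.finite_W (hp := Nodes.RGDTwE6.hp) CoxeterMatrix.F₄.toCoxeterSystem Nodes.RGDTwE6.isCartan Nodes.RGDTwE6.foldData,
    Nodes.RGDTwE6.rgd _ hφ hqq p, Nodes.RGDTwE6.G1_eq_top _ hφ hqq⟩

theorem typ_twD4 {K : Type*} [Field K] [Fintype K] {q : ℕ} (hq : IsPrimePow q) (hK : Fintype.card K = q ^ 3)
    (p : ℕ) [CharP K p] : HasRGDT p CoxeterMatrix.G₂ ↥(Lie.twistedD4 K q) := by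
  have : Fact p.Prime := ⟨CharP.char_is_prime K p⟩
  obtain ⟨φ, hφ⟩ := ChevalleyStructure.D4Fixed.exists_frob hq hK
  exact ⟨_, Nodes.RGDTwD4.isCartan, _, _, _,
    Nodes.RGDFold.finite_W (hp := Nodes.RGDTwD4.hp) CoxeterMatrix.G₂.toCoxeterSystem Nodes.RGDTwD4.isCartan Nodes.RGDTwD4.foldData,
    Nodes.RGDTwD4.rgd _ hK hφ p, Nodes.RGDTwD4.G1_eq_top _ hK hφ⟩

/-! ### The list -/

/-- the Coxeter matrix is simply laced -/
def Laced {I : Type*} (M : CoxeterMatrix I) : Prop := ∀ i j, M i j ≤ 3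

theorem laced_cA (n : ℕ) : Laced (cA n) := by
  intro i j
  change LieRecognition.CoxClass.mA (i : ℕ) (j : ℕ) ≤ 3
  unfold LieRecognition.CoxClass.mA
  split_ifs <;> omega

theorem laced_D (n : ℕ) : Laced (Nodes.TypeD.M n) := by
  intro i j
  rw [Nodes.TypeD.M_apply]
  split_ifs <;> omega

theorem laced_E6 : Laced CoxeterMatrix.E₆ := by
  intro i j
  fin_cases i <;> fin_cases j <;> decide

theorem laced_E7 : Laced CoxeterMatrix.E₇ := by
  intro i j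
  fin_cases i <;> fin_cases j <;> decide

theorem laced_E8 : Laced CoxeterMatrix.E₈ := by
  intro i j
  fin_cases i <;> fin_cases j <;> decide

theorem laced_of_one (M : CoxeterMatrix (Fin 1)) : Laced M := by
  intro i j
  rw [Subsingleton.elim i j, M.diagonal]
  omega

/-- **The list**: root group data of the groups of Lie type in characteristic two, with the type. -/
structure ListT (G : Type*) [Group G] : Prop where
  out : (∃ (l : ℕ) (M : CoxeterMatrix (Fin l)), 0 < l ∧ Laced M ∧ HasRGDT 2 M G) ∨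
    (∃ l, 2 ≤ l ∧ HasRGDT 2 (CoxeterMatrix.B l) G) ∨ HasRGDT 2 CoxeterMatrix.F₄ G ∨ HasRGDT 2 CoxeterMatrix.G₂ G ∨
      Lie.IsoSuzuki G ∨ Lie.Iso2F4 G

theorem laced_or_B {m : ℕ} {G : Type*} [Group G] (hm : 0 < m) (h : HasRGDT 2 (CoxeterMatrix.B m) G) : ListT G := by
  rcases Nat.lt_or_ge m 2 with h1 | h1
  · obtain rfl : m = 1 := by omega
    exact ⟨Or.inl ⟨1, _, one_pos, laced_of_one _, h⟩⟩
  · exact ⟨Or.inr (Or.inl ⟨m, h1, h⟩)⟩

/-- **The types of the groups of Lie type in characteristic two.** -/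
theorem list_of_lie {G : Type*} [Group G] (hG : IsLieTypeChar 2 G) : ListT G := by
  rcases hG with h | h | h | h | h | h | h | h | h | h | h
  · obtain ⟨n, hn, h⟩ := typ_of_PSL h
    exact ⟨Or.inl ⟨n, _, hn, laced_cA n, h⟩⟩
  · obtain ⟨F, _, _, _, m, hm, -, ⟨e⟩⟩ := h
    have : Fact (Nat.Prime 2) := ⟨Nat.prime_two⟩
    exact laced_or_B (by omega) ((typ_PSp (by omega)).of_equiv e.symm)
  · obtain ⟨F, _, _, _, n, q, hF, hn, -, ⟨e⟩⟩ := h
    have : Fact (Nat.Prime 2) := ⟨Nat.prime_two⟩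
    obtain ⟨m, hm, h⟩ := typ_PSU (p := 2) hF hn
    exact laced_or_B (by omega) (h.of_equiv e.symm)
  · exfalso
    obtain ⟨F, _, _, _, m, hm, hodd, ⟨e⟩⟩ := h
    obtain ⟨k, -, hk⟩ := FiniteField.card F 2
    rw [hk] at hodd
    exact absurd hodd (by
      rw [Nat.not_odd_iff_even]
      exact (even_two).pow_of_ne_zero k.ne_zero)
  · obtain ⟨F, _, _, _, m, hm, ⟨e⟩⟩ := h
    have : Fact (Nat.Prime 2) := ⟨Nat.prime_two⟩
    obtain ⟨n, rfl⟩ : ∃ n, m = n + 3 := ⟨m - 3, by omega⟩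
    exact ⟨Or.inl ⟨_, _, by omega, laced_D _, (typ_PO_plus n).of_equiv e.symm⟩⟩
  · obtain ⟨F, _, _, _, m, a, b, hm, hab, ⟨e⟩⟩ := h
    have : Fact (Nat.Prime 2) := ⟨Nat.prime_two⟩
    exact laced_or_B (by omega) ((typ_PO_minus hab (by omega)).of_equiv e.symm)
  · rcases typ_of_exc h with h | h | h | h | h
    · exact ⟨Or.inr (Or.inr (Or.inr (Or.inl h)))⟩
    · exact ⟨Or.inr (Or.inr (Or.inl h))⟩
    · exact ⟨Or.inl ⟨_, _, by omega, laced_E6, h⟩⟩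
    · exact ⟨Or.inl ⟨_, _, by omega, laced_E7, h⟩⟩
    · exact ⟨Or.inl ⟨_, _, by omega, laced_E8, h⟩⟩
  · obtain ⟨K, _, _, _, q, hq, ⟨hK, ⟨e⟩⟩ | ⟨hK, ⟨e⟩⟩⟩ := h
    · exact ⟨Or.inr (Or.inr (Or.inl ((typ_twE6 hq hK 2).of_equiv e.symm)))⟩
    · exact ⟨Or.inr (Or.inr (Or.inr (Or.inl ((typ_twD4 hq hK 2).of_equiv e.symm))))⟩
  · exact ⟨Or.inr (Or.inr (Or.inr (Or.inr (Or.inl h.2))))⟩
  · exact ⟨Or.inr (Or.inr (Or.inr (Or.inr (Or.inr h.2))))⟩
  · omega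

end Cfsg.Agent.Omega.ML.Ex.Typ
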