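import Cfsg.Agent.Omega.ML.Ex.Typ.List
import Cfsg.Agent.Omega.ML.LieRow.Lie

/-!
# The building frame with its type

* `HasSplitT.frame` : a simple normal subgroup `K` of a finite group `H` with a split (B,N)-pair of type `M` acts on a
  thick finite building of type `M` (`Sys`), with the action of `H` (`HAct`);
* `HasRGDT.frame` : the same from a root group datum of type `M`.
-/

set_option autoImplicit false

namespace Cfsg.Agent.Omega.ML.Ex.Typ

open Cfsg Cfsg.Agent.Tits.Core Cfsg.Agent.Tits.OfBN Cfsg.Agent.Schreier.BNSch Cfsg.Agent.FixBN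
  Cfsg.Agent.Omega.ML.LieRow

universe u

/-- the building frame of `K` in `H`, of type `M` -/
structure Frame {H : Type u} [Group H] (K : Subgroup H) {I : Type*} (M : CoxeterMatrix I) where
  W : Type u
  gW : Group W
  cs : CoxeterSystem M W
  C : Type u
  act : MulAction K C
  Δ : Bldg cs C
  S : Sys Δ K 2
  A : HAct Δ K
  thick : Δ.Thick
  finC : Finite C
  neC : Nonempty C
  finW : Finite W

/-- **The building frame of a simple normal subgroup with a split (B,N)-pair of type `M`.** -/
theorem HasSplitT.frame {H : Type u} [Group H] [Finite H] {K : Subgroup H} (hK : K.Normal)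
    {I : Type*} [Nonempty I] {M : CoxeterMatrix I} (h : HasSplitT 2 M K) : Nonempty (Frame K M) := by
  have : Fact (Nat.Prime 2) := ⟨Nat.prime_two⟩
  obtain ⟨P, U, e, hP, hN, cs, hcs⟩ := h
  have hI : Finite I := OfBN.finite_I e
  have S := OfBN.sys e cs hcs hP
  have hth := thick P e cs hcs
  obtain ⟨A⟩ := exists_hact S hth (fun τ => UGT.U2.FOne.exists_mv hP e cs hcs τ)
  exact ⟨⟨WP P, inferInstance, cs, K ⧸ P.B, inferInstance, _, S, A, hth, inferInstance,
    ⟨QuotientGroup.mk 1⟩, inferInstance⟩⟩

/-- **The building frame from a root group datum of type `M`.** -/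
theorem HasRGDT.frame {H : Type u} [Group H] [Finite H] {K : Subgroup H} (hK : K.Normal) (hs : IsSimpleGroup K)
    {l : ℕ} (hl : 0 < l) {M : CoxeterMatrix (Fin l)} (h : HasRGDT 2 M K) : Nonempty (Frame K M) := by
  have : Nonempty (Fin l) := ⟨⟨0, hl⟩⟩
  exact (h.hasSplitT Nat.prime_two hl).frame hK

end Cfsg.Agent.Omega.ML.Ex.Typ
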