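import Cfsg.Agent.Omega.ML.Ex.Typ.List
import Cfsg.Agent.TitsThree.KSideU

/-!
# The order of the last root group, diagram `B_m`

* `ParT p M i r G` : a root group datum of type `M` which generates `G`, with `|X (α_i)| ≤ r`;
* `par_PSp` : `PSp_{2m}(F)`, last node: `|F|`;
* `par_PSU_even`, `par_PSU_odd` : `PSU_{2m}(q)`: `q`, `PSU_{2m+1}(q)`: `q ^ 3`.
-/

set_option autoImplicit false
set_option linter.unusedSectionVars false

namespace Cfsg.Agent.Omega.ML.Ex.Typ

open Cfsg
open CoxeterSystem Cfsg.Agent.ChevalleyStructure.CoxeterGeom Cfsg.Agent.Tits.Roots Cfsg.Agent.Tits.Core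
  Cfsg.Agent.Nodes.Comb Cfsg.Agent.Nodes.Reps Cfsg.Agent.Nodes.BNOf Cfsg.Agent.FixBN
  Cfsg.Agent.Nodes.RGDLib Cfsg.Agent.Nodes.TypeC
open Cfsg.Agent.Nodes Cfsg.Agent.Nodes.WittAll Cfsg.Agent.Nodes.WittU Cfsg.Agent.Nodes.WittInst
  Cfsg.Agent.Nodes.WittRoot Cfsg.Agent.Nodes.WittRGD
  Cfsg.Agent.TitsThree Cfsg.Agent.TitsThree.Siegel Cfsg.Agent.TitsThree.SiegelGen
  Cfsg.Agent.TitsThree.WittFrame Cfsg.Agent.TitsThree.WBridge Cfsg.Agent.TitsThree.WittWeyl
  Cfsg.Agent.TitsThree.FrameCN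

/-- `G` is generated by a root group datum of characteristic `p` and type `M` with `|X (α_i)| ≤ r` -/
def ParT (p : ℕ) {l : ℕ} (M : CoxeterMatrix (Fin l)) (i : Fin l) (r : ℕ) (G : Type*) [Group G] : Prop :=
  ∃ (A : Fin l → Fin l → ℤ) (h : IsCartan M A) (T : Subgroup G) (n : Fin l → G) (X : (Fin l → ℤ) → Subgroup G),
    Finite M.Group ∧ RGD M.toCoxeterSystem h p T n X ∧ Nodes.RGDLib.G1 M.toCoxeterSystem h X = ⊤ ∧
      Nat.card (X (sr i)) ≤ r

theorem ParT.hasRGDT {p l : ℕ} {M : CoxeterMatrix (Fin l)} {i : Fin l} {r : ℕ} {G : Type*} [Group G]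
    (hG : ParT p M i r G) : HasRGDT p M G := by
  obtain ⟨A, h, T, n, X, hW, R, hX, -⟩ := hG
  exact ⟨A, h, T, n, X, hW, R, hX⟩

theorem ParT.of_equiv {p l : ℕ} {M : CoxeterMatrix (Fin l)} {i : Fin l} {r : ℕ} {G H : Type*} [Group G] [Group H]
    (e : G ≃* H) (hG : ParT p M i r G) : ParT p M i r H := by
  obtain ⟨A, h, T, n, X, hW, R, hX, hr⟩ := hG
  refine ⟨A, h, T.map e.toMonoidHom, fun i => e (n i), fun x => (X x).map e.toMonoidHom, hW,
    Nodes.RGDLib.rgd_map_of_injective R e.toMonoidHom e.injective, ?_, ?_⟩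
  · have h1 : (Nodes.RGDLib.G1 M.toCoxeterSystem h X).map e.toMonoidHom =
        Nodes.RGDLib.G1 M.toCoxeterSystem h (fun x => (X x).map e.toMonoidHom) := by
      unfold Nodes.RGDLib.G1 RGD.Sup
      rw [Subgroup.map_iSup]
    rw [← h1, hX, Subgroup.map_top_of_surjective _ e.surjective]
  · refine le_of_eq_of_le ?_ hr
    exact Nat.card_congr ((X (sr i)).equivMapOfInjective e.toMonoidHom e.injective).toEquiv.symm

section TypeC

variable {F : Type*} [Field F] {V : Type*} [AddCommGroup V] [Module F V] {H : HForm F V}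

/-- the last root group is an image of the group of admissible pairs -/
theorem card_last {n : ℕ} (hn : 0 < n) {Fr : Frame H (Fin n)} {K : Type*} [Group K] (M : Model Fr K)
    [Finite Fr.Adm] : Nat.card (WittModel.X M (sr ⟨n - 1, by omega⟩)) ≤ Nat.card Fr.Adm := by
  have hnx : nx (⟨n - 1, by omega⟩ : Fin n) = (⟨n - 1, by omega⟩, true) := by
    unfold nx; rw [dif_neg (by simp; omega)]
  have hmem : ∀ x ∈ WittModel.X M (sr ⟨n - 1, by omega⟩), ∃ (a : Fr.Adm) (ha : Fr.Z (⟨n - 1, by omega⟩, true) a ∈ M.I),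
      M.φ ⟨_, ha⟩ = x := by
    rintro _ ⟨g, hg, rfl⟩
    obtain ⟨g, hgI⟩ := g
    have h1 : g ∈ rg Fr (sr ⟨n - 1, by omega⟩) := hg
    rw [rg_sr, hnx, PG_self] at h1
    obtain ⟨a, rfl⟩ := h1
    exact ⟨a, hgI, rfl⟩
  choose! f hf using hmem
  refine Nat.card_le_card_of_injective (fun x : WittModel.X M (sr ⟨n - 1, by omega⟩) => f x.1) ?_
  intro x y hxy
  obtain ⟨h1, h2⟩ := hf x.1 x.2
  obtain ⟨h3, h4⟩ := hf y.1 y.2
  apply Subtype.ext
  rw [← h2, ← h4]
  congr 2
  exact congrArg _ hxy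

theorem par_C {n : ℕ} {Fr : Frame H (Fin n)} {K : Type*} [Group K] (M : Model Fr K) {p : ℕ}
    (hA : AmbT Fr p M.I) [Finite V] [Fact p.Prime] [CharP F p] {p0 : Fr.Adm} (hp0 : p0.c ≠ 0)
    (hn : 0 < n) [Finite Fr.Adm] {r : ℕ} (hr : Nat.card Fr.Adm ≤ r) :
    ParT p (CoxeterMatrix.B n) ⟨n - 1, by omega⟩ r K :=
  ⟨Nodes.TypeC.A n, Nodes.TypeC.isCartan n, _, _, _, Nodes.TypeC.finite_W (CoxeterMatrix.B n).toCoxeterSystem,
    rgdC_model M hA hp0 _, WittModel.G1_eq_top _ hn _, (card_last hn M).trans hr⟩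

theorem finite_adm {n : ℕ} (Fr : Frame H (Fin n)) [Finite V] [Finite F] : Finite Fr.Adm :=
  Finite.of_injective (fun a : Fr.Adm => (a.w, a.c)) fun a b e => by
    ext
    · exact congrArg Prod.fst e
    · exact congrArg Prod.snd e

/-- the number of admissible pairs -/
theorem card_adm_le {n : ℕ} (Fr : Frame H (Fin n)) [Finite V] [Finite F] {a b : ℕ} (hV : Nat.card Fr.V0 ≤ a)
    (hc : ∀ w : Fr.V0, Nat.card {c : F // Fr.ok w c} ≤ b) : Nat.card Fr.Adm ≤ a * b := by
  classical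
  have : Fintype Fr.V0 := Fintype.ofFinite _
  let g : Fr.Adm → Σ w : Fr.V0, {c : F // Fr.ok w c} := fun x => ⟨⟨x.w, Fr.ok_mem x.ok⟩, ⟨x.c, x.ok⟩⟩
  have hg : Function.Injective g := by
    intro x y e
    have h1 : x.w = y.w := by
      have := congrArg (fun z => (z.1 : V)) e
      exact this
    have h2 : x.c = y.c := by
      have := congrArg (fun z => (z.2.1 : F)) e
      exact this
    exact Frame.Adm.ext h1 h2
  refine (Nat.card_le_card_of_injective g hg).trans ?_
  rw [Nat.card_sigma]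
  refine (Finset.sum_le_card_nsmul _ _ b fun w _ => hc w).trans ?_
  rw [Finset.card_univ, ← Nat.card_eq_fintype_card, smul_eq_mul]
  exact Nat.mul_le_mul_right b hV

end TypeC

/-- the equation `c + c ^ q = b` has at most `q` solutions -/
theorem card_trace_le {F : Type*} [Field F] [Finite F] {q : ℕ} (hq : 2 ≤ q) (b : F) :
    Nat.card {c : F // c + c ^ q = b} ≤ q := by
  classical
  have : Fintype F := Fintype.ofFinite F
  let f : Polynomial F := Polynomial.X ^ q + (Polynomial.X - Polynomial.C b)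
  have hdeg : (Polynomial.X - Polynomial.C b : Polynomial F).natDegree < q := by
    rw [Polynomial.natDegree_X_sub_C]; omega
  have hf : f.natDegree = q := by
    rw [Polynomial.natDegree_add_eq_left_of_natDegree_lt (by rwa [Polynomial.natDegree_X_pow]),
      Polynomial.natDegree_X_pow]
  have hf0 : f ≠ 0 := by
    intro h
    rw [h, Polynomial.natDegree_zero] at hf
    omega
  have h1 : ∀ c : F, c + c ^ q = b → c ∈ f.roots.toFinset := by
    intro c hc
    rw [Multiset.mem_toFinset, Polynomial.mem_roots hf0, Polynomial.IsRoot.def]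
    simp only [f, Polynomial.eval_add, Polynomial.eval_sub, Polynomial.eval_pow, Polynomial.eval_X,
      Polynomial.eval_C]
    rw [← hc]
    ring
  have h2 : Nat.card {c : F // c + c ^ q = b} ≤ Nat.card f.roots.toFinset :=
    Nat.card_le_card_of_injective (fun c => (⟨c.1, h1 c.1 c.2⟩ : f.roots.toFinset)) fun x y e =>
      Subtype.ext (congrArg (fun z => (z.1 : F)) e)
  refine h2.trans ?_
  rw [Nat.card_eq_fintype_card, Fintype.card_coe]
  exact (Multiset.toFinset_card_le _).trans ((Polynomial.card_roots' f).trans hf.le)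

section Unitary

open Cfsg.Agent.LieClassical.HermBasic Cfsg.Agent.TitsThree.KSideU

variable {F : Type*} [Field F] [Fintype F] {q N : ℕ} (hF : Fintype.card F = q ^ 2)

include hF

theorem two_le_q : 2 ≤ q := by
  have h1 : 1 < Fintype.card F := Fintype.one_lt_card
  rw [hF] at h1
  by_contra h2
  have h3 : q = 0 ∨ q = 1 := by omega
  rcases h3 with rfl | rfl <;> simp at h1

theorem card_ok_le {m : ℕ} (W : WFrame (PU hF N) m) (w : (toFrame W).V0) :
    Nat.card {c : F // (toFrame W).ok w c} ≤ q := by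
  refine (Nat.card_le_card_of_injective (β := {c : F // c + c ^ q = -hermForm N F q w w})
    (fun c => ⟨c.1, c.2.2⟩) fun x y e => Subtype.ext (congrArg (fun z => (z.1 : F)) e)).trans
    (card_trace_le (two_le_q hF) _)

/-- **`PSU_{2m}(q)`: the last root group has order at most `q`.** -/
theorem par_PSU_even {m : ℕ} (hN : N = 2 * m) (hN3 : 3 ≤ N) {p : ℕ} [Fact p.Prime] [CharP F p] :
    ParT p (CoxeterMatrix.B m) ⟨m - 1, by omega⟩ q (PSU N F q) := by
  obtain ⟨W, hW⟩ := exists_wframe_even hF hN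
  obtain ⟨p0, hp0, -⟩ := exists_adm hF W
  have := finite_adm (toFrame W)
  refine par_C (KInstU.model hF hN3 W) (AmbT.of_amb (amb_U hF W) p) hp0 (by omega) ?_
  have h1 : Nat.card (toFrame W).V0 ≤ 1 := by
    change Nat.card W.V0 ≤ 1
    rw [hW]
    exact le_of_eq Nat.card_unique
  exact (card_adm_le (toFrame W) h1 (card_ok_le hF W)).trans (by rw [one_mul])

/-- **`PSU_{2m+1}(q)`: the last root group has order at most `q³`.** -/
theorem par_PSU_odd {m : ℕ} (hN : N = 2 * m + 1) (hm : 1 ≤ m) {p : ℕ} [Fact p.Prime] [CharP F p] :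
    ParT p (CoxeterMatrix.B m) ⟨m - 1, by omega⟩ (q ^ 3) (PSU N F q) := by
  obtain ⟨W, d, -, hW⟩ := exists_wframe_odd hF hN
  obtain ⟨p0, hp0, -⟩ := exists_adm hF W
  have := finite_adm (toFrame W)
  refine par_C (KInstU.model hF (by omega) W) (AmbT.of_amb (amb_U hF W) p) hp0 (by omega) ?_
  have h1 : Nat.card (toFrame W).V0 ≤ q ^ 2 := by
    change Nat.card W.V0 ≤ q ^ 2
    rw [hW, ← hF, ← Nat.card_eq_fintype_card]
    refine Nat.card_le_card_of_surjective (fun c : F => (⟨c • d, Submodule.smul_mem _ _ (Submodule.mem_span_singleton_self d)⟩ :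
      Submodule.span F {d})) ?_
    rintro ⟨x, hx⟩
    obtain ⟨c, rfl⟩ := Submodule.mem_span_singleton.1 hx
    exact ⟨c, rfl⟩
  exact (card_adm_le (toFrame W) h1 (card_ok_le hF W)).trans (by rw [← pow_succ])

end Unitary

/-- **`PSp_{2m}(F)`: the last root group has order at most `|F|`.** -/
theorem par_PSp {F : Type*} [Field F] [Finite F] {m : ℕ} (hm : 1 ≤ m) {p : ℕ}
    [Fact p.Prime] [CharP F p] : ParT p (CoxeterMatrix.B m) ⟨m - 1, by omega⟩ (Nat.card F) (PSp m F) := by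
  have := finite_adm (SpIdent.frame m F)
  refine par_C (KInstSp.model m F) (AmbT.of_amb amb_Sp p) (p0 := SpIdent.adm 1) one_ne_zero hm ?_
  refine Nat.card_le_card_of_injective (fun a : (SpIdent.frame m F).Adm => a.c) ?_
  intro a b e
  have h1 : a.w = 0 := a.ok
  have h2 : b.w = 0 := b.ok
  exact Frame.Adm.ext (h1.trans h2.symm) e

end Cfsg.Agent.Omega.ML.Ex.Typ
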