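import Cfsg.Agent.FixBN.SplitRGD
import Cfsg.Agent.FixBN.OfBN
import Cfsg.Agent.Nodes.HasRGD

/-!
# The type of the (B,N)-pair of a root group datum

* `RGD.bnType` : the (B,N)-pair of a root group datum of type `M` is of type `M`;
* `HasSplitT p M K` : `K` has a split (B,N)-pair of characteristic `p` and type `M`;
* `HasRGDT p M G` : `G` has a root group datum of characteristic `p` and type `M` (with generation);
* `HasRGDT.hasSplitT` : for a simple group of positive rank, `HasRGDT p M G → HasSplitT p M G`.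
-/

set_option autoImplicit false
set_option linter.unusedSectionVars false

namespace Cfsg.Agent.Omega.ML.Ex.Typ

open CoxeterSystem Cfsg.Agent.ChevalleyStructure.CoxeterGeom Cfsg.Agent.Tits.Roots Cfsg.Agent.Tits.Core
  Cfsg.Agent.Tits.RootComb Cfsg.Agent.Nodes.Comb Cfsg.Agent.Nodes.Reps Cfsg.Agent.Nodes.BNOf Cfsg.Agent.FixBN

section

variable {I W Y : Type*} [Fintype I] [DecidableEq I] [Group W] [Group Y] {M : CoxeterMatrix I}
  {cs : CoxeterSystem M W} {A : I → I → ℤ} {h : IsCartan M A} {p : ℕ} {T : Subgroup Y} {n : I → Y}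
  {X : (I → ℤ) → Subgroup Y}

/-- a representative represents only one element -/
theorem rp_inj [Finite W] (R : RGD cs h p T n X) {v w : W} {g : Y} (h1 : Rp cs R.nsys v g) (h2 : Rp cs R.nsys w g) :
    v = w := by
  have h3 := h1.inv.mul h2
  rw [inv_mul_cancel] at h3
  have h4 := R.eq_one_of_mem_B h3 (one_mem _)
  rwa [inv_mul_eq_one] at h4

theorem mem_bnPair_N [Finite W] (R : RGD cs h p T n X) (hgen : RGD.B cs h T X ⊔ NN cs R.nsys = ⊤) (g : Y) :
    g ∈ (R.bnPair hgen).N ↔ ∃ w, Rp cs R.nsys w g := Iff.rfl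

/-- the homomorphism of `N` onto the Weyl group -/
noncomputable def toW [Finite W] (R : RGD cs h p T n X) (hgen : RGD.B cs h T X ⊔ NN cs R.nsys = ⊤) :
    (R.bnPair hgen).N →* W where
  toFun g := ((mem_bnPair_N R hgen g).1 g.2).choose
  map_one' := rp_inj R ((mem_bnPair_N R hgen _).1 (1 : (R.bnPair hgen).N).2).choose_spec rp_one
  map_mul' a b := rp_inj R ((mem_bnPair_N R hgen _).1 (a * b).2).choose_spec
    (((mem_bnPair_N R hgen _).1 a.2).choose_spec.mul ((mem_bnPair_N R hgen _).1 b.2).choose_spec)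

theorem rp_toW [Finite W] (R : RGD cs h p T n X) (hgen : RGD.B cs h T X ⊔ NN cs R.nsys = ⊤)
    (g : (R.bnPair hgen).N) : Rp cs R.nsys (toW R hgen g) (g : Y) :=
  ((mem_bnPair_N R hgen g).1 g.2).choose_spec

theorem toW_eq [Finite W] (R : RGD cs h p T n X) (hgen : RGD.B cs h T X ⊔ NN cs R.nsys = ⊤)
    {g : (R.bnPair hgen).N} {w : W} (hg : Rp cs R.nsys w (g : Y)) :
    toW R hgen g = w := rp_inj R (rp_toW R hgen g) hg

theorem toW_surjective [Finite W] (R : RGD cs h p T n X) (hgen : RGD.B cs h T X ⊔ NN cs R.nsys = ⊤) :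
    Function.Surjective (toW R hgen) := by
  intro w
  obtain ⟨g, hg⟩ := exists_rp cs R.nsys w
  exact ⟨⟨g, w, hg⟩, toW_eq R hgen hg⟩

/-- **The (B,N)-pair of a root group datum of type `M` is of type `M`.** -/
theorem bnType [Finite W] (R : RGD cs h p T n X) (hgen : RGD.B cs h T X ⊔ NN cs R.nsys = ⊤) :
    BNType (R.bnPair hgen) M (Equiv.ofInjective n R.n_injective) := by
  have hker : (((R.bnPair hgen).B ⊓ (R.bnPair hgen).N).subgroupOf (R.bnPair hgen).N) = (toW R hgen).ker := by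
    ext g
    rw [Subgroup.mem_subgroupOf, MonoidHom.mem_ker]
    constructor
    · intro hg
      exact R.eq_one_of_mem_B (rp_toW R hgen g) (Subgroup.mem_inf.1 hg).1
    · intro hg
      have h1 := rp_toW R hgen g
      rw [hg] at h1
      exact Subgroup.mem_inf.2 ⟨RGD.T_le_B h1.mem_of_one, g.2⟩
  have hn : (((R.bnPair hgen).B ⊓ (R.bnPair hgen).N).subgroupOf (R.bnPair hgen).N).Normal := by
    rw [hker]; exact MonoidHom.normal_ker _
  have hn' : (toW R hgen).ker.Normal := MonoidHom.normal_ker _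
  refine ⟨hn, cs.map ((QuotientGroup.quotientMulEquivOfEq hker).trans
    (QuotientGroup.quotientKerEquivOfSurjective _ (toW_surjective R hgen))).symm, fun i => ?_⟩
  rw [CoxeterSystem.map_simple, MulEquiv.symm_apply_eq]
  exact (toW_eq R hgen (g := ⟨n i, _, rp_simple cs R.nsys i⟩) (rp_simple cs R.nsys i)).symm

end

/-- the group `K` has a split (B,N)-pair of characteristic `p` and type `M` -/
def HasSplitT (p : ℕ) {I : Type*} (M : CoxeterMatrix I) (K : Type*) [Group K] : Prop :=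
  ∃ (P : Cfsg.BNPair K) (U : Subgroup K) (e : I ≃ P.S), Split P p U ∧ BNType P M e

theorem HasSplitT.hasSplit {p : ℕ} {I : Type*} [Nonempty I] {M : CoxeterMatrix I} {K : Type*} [Group K]
    (hK : HasSplitT p M K) : HasSplit p K := by
  obtain ⟨P, U, e, h1, -⟩ := hK
  obtain ⟨i⟩ := (inferInstance : Nonempty I)
  exact ⟨P, U, ⟨e i, (e i).2⟩, h1⟩

/-- the group `G` is generated by a root group datum of characteristic `p` and type `M` -/
def HasRGDT (p : ℕ) {l : ℕ} (M : CoxeterMatrix (Fin l)) (G : Type*) [Group G] : Prop :=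
  ∃ (A : Fin l → Fin l → ℤ) (h : IsCartan M A) (T : Subgroup G) (n : Fin l → G) (X : (Fin l → ℤ) → Subgroup G),
    Finite M.Group ∧ RGD M.toCoxeterSystem h p T n X ∧ Nodes.RGDLib.G1 M.toCoxeterSystem h X = ⊤

theorem HasRGDT.hasRGD {p l : ℕ} {M : CoxeterMatrix (Fin l)} {G : Type*} [Group G] (hG : HasRGDT p M G) :
    Nodes.RGDChev.HasRGD p G := by
  obtain ⟨A, h, T, n, X, hW, R, hX⟩ := hG
  exact ⟨l, M, A, h, T, n, X, hW, R, hX⟩

theorem HasRGDT.of_equiv {p l : ℕ} {M : CoxeterMatrix (Fin l)} {G H : Type*} [Group G] [Group H] (e : G ≃* H)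
    (hG : HasRGDT p M G) : HasRGDT p M H := by
  obtain ⟨A, h, T, n, X, hW, R, hX⟩ := hG
  refine ⟨A, h, T.map e.toMonoidHom, fun i => e (n i), fun x => (X x).map e.toMonoidHom, hW,
    Nodes.RGDLib.rgd_map_of_injective R e.toMonoidHom e.injective, ?_⟩
  have h1 : (Nodes.RGDLib.G1 M.toCoxeterSystem h X).map e.toMonoidHom =
      Nodes.RGDLib.G1 M.toCoxeterSystem h (fun x => (X x).map e.toMonoidHom) := by
    unfold Nodes.RGDLib.G1 RGD.Sup
    rw [Subgroup.map_iSup]
  rw [← h1, hX, Subgroup.map_top_of_surjective _ e.surjective]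

/-- **Root group data give split (B,N)-pairs of the same type.** -/
theorem HasRGDT.hasSplitT {p l : ℕ} {M : CoxeterMatrix (Fin l)} {G : Type*} [Group G] [IsSimpleGroup G]
    (hp : p.Prime) (hl : 0 < l) (hG : HasRGDT p M G) : HasSplitT p M G := by
  obtain ⟨A, h, T, n, X, hW, R, hX⟩ := hG
  have hgen : RGD.B M.toCoxeterSystem h T X ⊔ NN M.toCoxeterSystem R.nsys = ⊤ := by
    rw [eq_top_iff, ← hX]
    exact Nodes.RGDLib.rgd_G1_le R
  have hne : (R.bnPair hgen).S.Nonempty := ⟨n ⟨0, hl⟩, _, rfl⟩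
  exact ⟨R.bnPair hgen, _, _, SplitRGD.split_of_rgd hp R hgen
    (Cfsg.Agent.Tits.OfBN.normalCore_eq_bot (R.bnPair hgen) hne), bnType R hgen⟩

end Cfsg.Agent.Omega.ML.Ex.Typ
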